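import Cfsg.Agent.Lib.Perm.PrimeTriple
import Cfsg.Agent.Lib.OddLocal.SharpEven
import Mathlib.GroupTheory.GroupAction.Primitive

/-!
# Groups of prime degree `p` with a Sylow normalizer of order `2 p`

If `P` is not normal the group is triply transitive and counting fixed points shows that it is
sharply so.
-/

set_option autoImplicit false
set_option linter.unusedSectionVars false

open MulAction

namespace Cfsg.Agent.Lib.PrimeDegreeDihedral

/-- The average number of fixed `k`-tuples of distinct points is one. -/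
theorem sum_descFactorial {G α : Type*} [Group G] [Fintype G] [MulAction G α] [Fintype α]
    [DecidableEq α] (k : ℕ) (hk : k ≤ Fintype.card α) (h : IsMultiplyPretransitive G α k) :
    ∑ g : G, (Nat.card (fixedBy α g)).descFactorial k = Fintype.card G := by
  classical
  haveI : IsPretransitive G (Fin k ↪ α) := h
  haveI : Nonempty (Fin k ↪ α) := Function.Embedding.nonempty_of_card_le (by simpa using hk)
  have hB := sum_card_fixedBy_eq_card_orbits_mul_card_group G (Fin k ↪ α)
  have h1 : Fintype.card (Quotient (orbitRel G (Fin k ↪ α))) = 1 :=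
    Fintype.card_eq_one_iff.2 ⟨Quotient.mk'' (Classical.arbitrary _), fun q => by
      refine Quotient.inductionOn' q fun x => Quotient.sound' ?_
      rw [orbitRel_apply]
      exact exists_smul_eq G _ _⟩
  rw [h1, one_mul] at hB
  rw [← hB]
  refine Finset.sum_congr rfl fun g _ => ?_
  have e : (fixedBy (Fin k ↪ α) g) ≃ (Fin k ↪ fixedBy α g) :=
    { toFun := fun x => ⟨fun i => ⟨(x : Fin k ↪ α) i, by
          have := DFunLike.congr_fun (x.2 : g • (x : Fin k ↪ α) = x) i
          simpa using this⟩, fun i j hij => (x : Fin k ↪ α).injective (congrArg Subtype.val hij)⟩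
      invFun := fun x => ⟨⟨fun i => (x i : α), fun i j hij => x.injective (Subtype.ext hij)⟩,
        by ext i; exact (x i).2⟩
      left_inv := fun x => rfl
      right_inv := fun x => rfl }
  rw [Fintype.card_congr e, Fintype.card_embedding_eq, Fintype.card_fin, Nat.card_eq_fintype_card]

variable {α : Type*} [Fintype α] [DecidableEq α] {p : ℕ} [hp : Fact p.Prime]

theorem prime_dvd_card {G : Subgroup (Equiv.Perm α)} (hp2 : 2 < p) (P : Sylow p G)
    (hN : Nat.card (Subgroup.normalizer ((P : Subgroup G) : Set G)) = 2 * p) : p ∣ Nat.card G :=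
  (Dvd.intro_left 2 hN.symm).trans (Subgroup.card_subgroup_dvd_card _)

theorem pretransitive (hα : Fintype.card α = p) {G : Subgroup (Equiv.Perm α)}
    (h : p ∣ Nat.card G) : IsPretransitive G α := by
  obtain ⟨τ, hτ⟩ := exists_prime_orderOf_dvd_card' p h
  obtain ⟨e, he⟩ := Perm.exists_coord_of_orderOf hα (τ : Equiv.Perm α)
    (by rw [Subgroup.orderOf_coe, hτ])
  have hpow : ∀ (n : ℕ) i, ((τ ^ n : G) : Equiv.Perm α) (e i) = e (i + n) := by
    intro n
    induction n with
    | zero => intro i; simp
    | succ n ih =>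
        intro i
        rw [pow_succ', Subgroup.coe_mul, Equiv.Perm.mul_apply, ih, he]
        push_cast
        rw [add_assoc]
  refine ⟨fun x y => ⟨τ ^ (e.symm y - e.symm x).val, ?_⟩⟩
  show ((τ ^ _ : G) : Equiv.Perm α) x = y
  obtain ⟨i, rfl⟩ := e.surjective x
  rw [hpow, ZMod.natCast_zmod_val, Equiv.symm_apply_apply, add_sub_cancel, Equiv.apply_symm_apply]

/-- A solvable transitive group of prime degree has a normal Sylow `p`-subgroup. -/
theorem normal_of_solvable (hα : Fintype.card α = p) (G : Subgroup (Equiv.Perm α))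
    [IsPretransitive G α] (hG : Group.IsSolvable G) (P : Sylow p G) : (P : Subgroup G).Normal := by
  classical
  obtain ⟨n, hn⟩ := (Group.isSolvable_def G).1 hG
  have h0 : derivedSeries G 0 ≠ ⊥ := by
    intro h
    have h1 : Nat.card G = 1 := by
      rw [← Subgroup.card_top (G := G), ← derivedSeries_zero, h, Subgroup.card_bot]
    have h2 := Perm.card_sylow_of_prime_degree hα G P
    have h3 := Subgroup.card_subgroup_dvd_card (P : Subgroup G)
    rw [h1, Nat.dvd_one] at h3
    have := hp.out.two_le
    omega
  have hex : ∃ m, derivedSeries G (m + 1) = ⊥ := by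
    refine ⟨n, le_bot_iff.1 ?_⟩
    rw [← hn, derivedSeries_succ]
    exact Subgroup.commutator_le_left _ _
  set m := Nat.find hex with hm
  have hA1 : derivedSeries G (m + 1) = ⊥ := Nat.find_spec hex
  have hA : derivedSeries G m ≠ ⊥ := by
    intro h
    rcases Nat.eq_zero_or_pos m with hm0 | hm0
    · exact h0 (hm0 ▸ h)
    · exact Nat.find_min hex (m := m - 1) (by omega) (by rwa [Nat.sub_add_cancel hm0])
  set A := derivedSeries G m with hAdef
  haveI hAn : A.Normal := derivedSeries_normal G m
  haveI : IsPreprimitive G α := IsPreprimitive.of_prime_card (by rw [Nat.card_eq_fintype_card, hα]; exact hp.out)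
  haveI : IsPretransitive A α := by
    refine IsQuasiPreprimitive.isPretransitive_of_normal (N := A) (fun h => hA ?_)
    rw [Subgroup.eq_bot_iff_forall]
    intro a ha
    refine Subtype.ext (Equiv.ext fun x => ?_)
    have hx : x ∈ fixedPoints A α := h ▸ Set.mem_univ x
    exact hx ⟨a, ha⟩
  have hcomm : ∀ a b : A, a * b = b * a := fun a b => Subtype.ext <|
    Subgroup.mem_centralizer_iff.1 ((Subgroup.commutator_eq_bot_iff_le_centralizer.1
      (by rw [← derivedSeries_succ]; exact hA1)) b.2) a a.2
  obtain ⟨x⟩ : Nonempty α := Fintype.card_pos_iff.mp (hα ▸ hp.out.pos)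
  have hst : stabilizer A x = ⊥ := by
    rw [Subgroup.eq_bot_iff_forall]
    intro a ha
    refine Subtype.ext (Subtype.ext (Equiv.ext fun y => ?_))
    obtain ⟨b, rfl⟩ := exists_smul_eq A x y
    show a • b • x = b • x
    rw [← mul_smul, hcomm, mul_smul, mem_stabilizer_iff.1 ha]
  have hcA : Nat.card A = p := by
    have := index_stabilizer_of_transitive A x
    rw [hst, Subgroup.index_bot, Nat.card_eq_fintype_card (α := α), hα] at this
    exact this
  have hAP : A ≤ (P : Subgroup G) :=
    IsPGroup.le_sylow_of_normal (IsPGroup.of_card (n := 1) (by rw [hcA, pow_one])) P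
  have : A = (P : Subgroup G) := Subgroup.eq_of_le_of_card_ge hAP
    (by rw [hcA]; exact le_of_eq (Perm.card_sylow_of_prime_degree hα G P))
  rw [← this]; exact hAn

/-- With a Sylow normalizer of order `2 p`, a non-solvable group of degree `p` fixes at most two
points with each non-identity element. -/
theorem eq_one_of_three_le (hp2 : 2 < p) (hα : Fintype.card α = p) (G : Subgroup (Equiv.Perm α))
    [IsPretransitive G α] (h3 : IsMultiplyPretransitive G α 3) (P : Sylow p G)
    (hN : Nat.card (Subgroup.normalizer ((P : Subgroup G) : Set G)) = 2 * p) (g₀ : G)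
    (hg₀ : 3 ≤ Nat.card (fixedBy α g₀)) : g₀ = 1 := by
  classical
  haveI := h3
  have h1' : IsMultiplyPretransitive G α 1 :=
    isMultiplyPretransitive_of_le (n := 3) (by norm_num) (by simp only [Nat.card_eq_fintype_card, hα]; omega)
  have h2' : IsMultiplyPretransitive G α 2 :=
    isMultiplyPretransitive_of_le (n := 3) (by norm_num) (by simp only [Nat.card_eq_fintype_card, hα]; omega)
  have e1 := sum_descFactorial (G := G) (α := α) 1 (by omega) h1'
  have e2 := sum_descFactorial (G := G) (α := α) 2 (by omega) h2'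
  have e3 := sum_descFactorial (G := G) (α := α) 3 (by omega) h3
  set f : G → ℕ := fun g => Nat.card (fixedBy α g) with hfdef
  have hfle : ∀ g, f g ≤ p := fun g => by
    rw [← hα, ← Nat.card_eq_fintype_card]
    exact Nat.card_le_card_of_injective Subtype.val Subtype.val_injective
  set F : ℕ → ℤ := fun n => ((n : ℤ) - 1) * ((n : ℤ) - 2) * ((p : ℤ) - n) with hF
  have hFnonneg : ∀ g, 0 ≤ F (f g) := by
    intro g
    have h := hfle g
    refine mul_nonneg ?_ (by omega)
    rcases Nat.lt_or_ge (f g) 2 with h2 | h2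
    · interval_cases (f g) <;> norm_num
    · exact mul_nonneg (by omega) (by omega)
  have hFid : ∀ n : ℕ, F n = -((n.descFactorial 3 : ℕ) : ℤ) +
      p * (((n.descFactorial 2 : ℕ) : ℤ) - 2 * ((n.descFactorial 1 : ℕ) : ℤ) + 2) := by
    intro n
    rcases n with _ | _ | _ | n <;> simp [hF, Nat.descFactorial_succ] <;> push_cast <;> ring
  have htot : ∑ g : G, F (f g) = ((p : ℤ) - 1) * Fintype.card G := by
    simp only [hFid, Finset.sum_add_distrib, Finset.sum_neg_distrib, ← Finset.mul_sum,
      Finset.sum_sub_distrib, ← Nat.cast_sum, hfdef, e1, e2, e3]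
    simp
    ring
  set T : Finset G := Finset.univ.filter (fun g => orderOf g = p) with hT
  have hcT : (p - 1) * Fintype.card G ≤ 2 * p * T.card := by
    have hcard : ∀ Q : Sylow p G, Nat.card Q = p := Perm.card_sylow_of_prime_degree hα G
    have hsame : ∀ (Q : Sylow p G) (x : G), x ∈ (Q : Subgroup G) → x ≠ 1 →
        Subgroup.zpowers x = (Q : Subgroup G) ∧ orderOf x = p := by
      intro Q x hx hne
      have ho : orderOf x = p := by
        have hd : orderOf (⟨x, hx⟩ : (Q : Subgroup G)) ∣ p := by
          have := orderOf_dvd_natCard (⟨x, hx⟩ : (Q : Subgroup G))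
          rwa [hcard Q] at this
        rcases (Nat.dvd_prime hp.out).1 hd with h | h
        · exact absurd (by simpa using congrArg Subtype.val (orderOf_eq_one_iff.1 h)) hne
        · rwa [Subgroup.orderOf_mk] at h
      exact ⟨Subgroup.eq_of_le_of_card_ge ((Subgroup.zpowers_le).2 hx)
        (by rw [Nat.card_zpowers, ho]; exact le_of_eq (hcard Q)), ho⟩
    have hle : Nat.card (Σ Q : Sylow p G, {x : (Q : Subgroup G) // x ≠ 1}) ≤ T.card := by
      rw [← Set.ncard_coe_finset T, ← Nat.card_coe_set_eq]
      refine Nat.card_le_card_of_injective (fun s => (⟨((s.2 : (s.1 : Subgroup G)) : G), ?_⟩ : (T : Set G))) ?_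
      · simp only [hT, Finset.coe_filter, Finset.mem_univ, true_and, Set.mem_setOf_eq]
        exact (hsame s.1 _ (s.2 : (s.1 : Subgroup G)).2 (fun h => s.2.2 (Subtype.ext h))).2
      · rintro ⟨Q, x⟩ ⟨R, y⟩ h
        have h' : ((x : (Q : Subgroup G)) : G) = ((y : (R : Subgroup G)) : G) := congrArg Subtype.val h
        have hQR : Q = R := Sylow.ext <| by
          rw [← (hsame Q _ (x : (Q : Subgroup G)).2 (fun h => x.2 (Subtype.ext h))).1,
            ← (hsame R _ (y : (R : Subgroup G)).2 (fun h => y.2 (Subtype.ext h))).1, h']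
        subst hQR
        exact Sigma.ext rfl (heq_of_eq (Subtype.ext (Subtype.ext h')))
    have hsig : Nat.card (Σ Q : Sylow p G, {x : (Q : Subgroup G) // x ≠ 1}) =
        Nat.card (Sylow p G) * (p - 1) := by
      rw [Nat.card_sigma]
      simp only [Nat.card_eq_fintype_card, Fintype.card_subtype_compl, Fintype.card_unique]
      rw [Finset.sum_congr rfl (fun Q _ => by
        rw [← Nat.card_eq_fintype_card (α := ((Q : Subgroup G) : Type _)), hcard Q])]
      simp
    rw [hsig, P.card_eq_index_normalizer] at hle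
    have hidx := Subgroup.card_mul_index (Subgroup.normalizer ((P : Subgroup G) : Set G))
    rw [hN, Nat.card_eq_fintype_card] at hidx
    calc (p - 1) * Fintype.card G
        = 2 * p * ((Subgroup.normalizer ((P : Subgroup G) : Set G)).index * (p - 1)) := by
          rw [← hidx]; ring
      _ ≤ 2 * p * T.card := Nat.mul_le_mul_left _ hle
  have hT0 : ∀ g ∈ T, F (f g) = 2 * p := by
    intro g hg
    simp only [hT, Finset.mem_filter, Finset.mem_univ, true_and] at hg
    obtain ⟨e, he⟩ := Perm.exists_coord_of_orderOf hα (g : Equiv.Perm α)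
      (by rw [Subgroup.orderOf_coe, hg])
    have h0 : f g = 0 := by
      haveI : IsEmpty (fixedBy α g) := ⟨fun x => by
        have hx : (g : Equiv.Perm α) x.1 = x.1 := x.2
        rw [← e.apply_symm_apply x.1, he] at hx
        simpa using e.injective hx⟩
      exact Nat.card_of_isEmpty
    rw [h0]; simp [hF]
  by_contra hne
  have hflt : f g₀ < p := by
    refine lt_of_le_of_ne (hfle g₀) (fun h => hne ?_)
    have huniv : fixedBy α g₀ = Set.univ :=
      Set.eq_of_subset_of_ncard_le (Set.subset_univ _)
        (by rw [Set.ncard_univ, Nat.card_eq_fintype_card, hα, ← Nat.card_coe_set_eq]; exact h.ge)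
    refine Subtype.ext (Equiv.ext fun x => ?_)
    have hx : x ∈ fixedBy α g₀ := huniv ▸ Set.mem_univ x
    exact hx
  have hpos : 0 < F (f g₀) := by
    have h3' : 3 ≤ f g₀ := hg₀
    exact mul_pos (mul_pos (by omega) (by omega)) (by omega)
  have hg₀T : g₀ ∉ T := by
    intro h
    have e := hT0 g₀ h
    simp only [hT, Finset.mem_filter, Finset.mem_univ, true_and] at h
    obtain ⟨e', he⟩ := Perm.exists_coord_of_orderOf hα (g₀ : Equiv.Perm α)
      (by rw [Subgroup.orderOf_coe, h])
    obtain ⟨⟨x, hx⟩⟩ : Nonempty (fixedBy α g₀) := by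
      rw [← Finite.card_pos_iff]; omega
    have hx' : (g₀ : Equiv.Perm α) x = x := hx
    rw [← e'.apply_symm_apply x, he] at hx'
    simpa using e'.injective hx'
  have hsum : ∑ g ∈ T, F (f g) + F (f g₀) ≤ ∑ g : G, F (f g) := by
    rw [add_comm, ← Finset.sum_insert (f := fun g => F (f g)) hg₀T]
    exact Finset.sum_le_sum_of_subset_of_nonneg (Finset.subset_univ _) (fun g _ _ => hFnonneg g)
  rw [Finset.sum_congr rfl hT0, Finset.sum_const, nsmul_eq_mul, htot] at hsum
  have hcT' : ((p : ℤ) - 1) * Fintype.card G ≤ 2 * p * T.card := by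
    have : (((p - 1) * Fintype.card G : ℕ) : ℤ) ≤ ((2 * p * T.card : ℕ) : ℤ) := by exact_mod_cast hcT
    push_cast [Nat.cast_sub hp.out.one_le] at this
    exact this
  linarith

/-- A group of prime degree `p` with a Sylow normalizer of order `2 p` has a normal Sylow
subgroup or is `SL(2, p - 1)`. -/
theorem normal_or_sl_two (hp2 : 2 < p) (hα : Fintype.card α = p) (G : Subgroup (Equiv.Perm α))
    (P : Sylow p G)
    (hN : Nat.card (Subgroup.normalizer ((P : Subgroup G) : Set G)) = 2 * p) :
    (P : Subgroup G).Normal ∨ ∃ (a : ℕ) (F : Type) (_ : Field F) (_ : Fintype F),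
      p = 2 ^ a + 1 ∧ Fintype.card F = 2 ^ a ∧
        Nonempty (G ≃* Matrix.SpecialLinearGroup (Fin 2) F) := by
  classical
  haveI := pretransitive hα (prime_dvd_card hp2 P hN)
  by_cases hsolv : Group.IsSolvable G
  · exact Or.inl (normal_of_solvable hα G hsolv P)
  refine Or.inr ?_
  have h3 := Perm.three_transitive_of_even_normalizer hα G hsolv P (by rw [hN]; exact even_two_mul p)
  have hthree : ∀ g : G, ∀ x y z : α, x ≠ y → y ≠ z → x ≠ z → g • x = x → g • y = y → g • z = z →
      g = 1 := by
    intro g x y z hxy hyz hxz hx hy hz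
    refine eq_one_of_three_le hp2 hα G h3 P hN g ?_
    have h1 : ({x, y, z} : Finset α) ⊆ (fixedBy α g).toFinset := by
      intro w hw
      simp only [Finset.mem_insert, Finset.mem_singleton] at hw
      rw [Set.mem_toFinset]
      rcases hw with rfl | rfl | rfl <;> assumption
    rw [Nat.card_eq_fintype_card, ← Set.toFinset_card]
    refine le_trans ?_ (Finset.card_le_card h1)
    rw [Finset.card_insert_of_notMem (by simp [hxy, hxz]), Finset.card_pair hyz]
  obtain ⟨a, K, i1, i2, ha, hcard, hK, ⟨e⟩⟩ := OddLocal.sharp_odd_degree (G := G) (Ω := α) h3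
    hthree (by omega) (hα ▸ hp.out.odd_of_ne_two (by omega))
  refine ⟨a, K, i1, i2, hα ▸ hcard, hK, ⟨e.trans (OddLocal.sl2_equiv_pgl2 (K := K) ?_).symm⟩⟩
  rw [hK]; exact (Nat.even_pow' (by omega)).mpr even_two

end Cfsg.Agent.Lib.PrimeDegreeDihedral
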